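import Cfsg.Agent.BH.Defs
import Cfsg.Agent.BH.HN

/-!
# BH (S4524): the box DQ (helper35)
-/

set_option autoImplicit false
set_option linter.style.haveILetI false
set_option linter.unusedSectionVars false

open Cfsg

namespace Cfsg.Agent.BH

open Cfsg.Agent Cfsg.Agent.Characters.Core Cfsg.Agent.Blocks Cfsg.Agent.TID.Red Cfsg.Agent.KM.BK Cfsg.Agent.KM.Mu

namespace TT

universe u

variable {p : ℕ} [Fact p.Prime] {M : Ideal AlgInt}

theorem bz_of_ihz {m : ℕ} (h : IHz p M m) (H : Type) [Group H] [Finite H]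
    (hH : (Subgroup.center H).index ≤ m) : TB.BZ p M H :=
  fun B D hB hD hz => h H hH B D hB hD (eq_iff_hz.2 hz)

variable {G : Type u} [Group G] [Finite G] {B : Set (IrrCharacter G)} {N : Subgroup G} [hN : N.Normal]

/-- a block over an invariant character covers one block only -/
theorem cov_eq (hM : IsPModular p M) (hB : IsPBlock M B) {θ : IrrCharacter N} (hθ : θ ∈ cov B N)
    (hinv : ∀ (g : G) (n : N), (θ : N → ℂ) ⟨g * n * g⁻¹, hN.conj_mem n n.2 g⟩ = (θ : N → ℂ) n) :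
    cov B N = blockOf M (θ : N → ℂ) := by
  have := Local.isPrime_of_isPModular hM
  letI := Fintype.ofFinite G
  letI := Fintype.ofFinite N
  obtain ⟨χ, hχ, hθ⟩ := hθ
  have hβ : IsPBlock M (blockOf M (θ : N → ℂ)) := ⟨θ, rfl⟩
  have hθβ : θ ∈ blockOf M (θ : N → ℂ) := Basic.mem_blockOf_self θ
  obtain ⟨T, hT⟩ := exists_isStab hβ
  ext ψ
  constructor
  · rintro ⟨χ', hχ', h2⟩
    obtain ⟨g, θ', hθ', h3⟩ := S0964.result p M hM N B hB _ hβ χ hχ θ hθβ ((ov_subtype_iff N _ _).1 hθ) χ' hχ' ψ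
      ((ov_subtype_iff N _ _).1 h2)
    refine (hT g).1 (hT.mem_of_mem hβ hθβ ?_) θ' hθ' ψ h3
    have h4 : Covering.conjIrr N g θ = θ := by
      apply Subtype.ext
      funext n
      rw [Covering.conjIrr_apply, H591.Reynolds.conjNormal_eq]
      exact hinv g n
    rw [h4]
    exact hθβ
  · intro hψ
    obtain ⟨χ', hχ', h2⟩ := S4432.result p M hM N B hB _ hβ ⟨χ, hχ, θ, hθβ, (ov_subtype_iff N _ _).1 hθ⟩ ψ hψ
    exact ⟨χ', hχ', (ov_subtype_iff N _ _).2 h2⟩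

theorem df_le_inf (hM : IsPModular p M) (hB : IsPBlock M B) {D : Subgroup G} (hD : IsDefectGroup p M B D)
    {θ : IrrCharacter N} (hθ : θ ∈ cov B N)
    (hinv : ∀ (g : G) (n : N), (θ : N → ℂ) ⟨g * n * g⁻¹, hN.conj_mem n n.2 g⟩ = (θ : N → ℂ) n) :
    df p θ ≤ (Nat.card (D ⊓ N : Subgroup G)).factorization p := by
  have hc : IsPBlock M (cov B N) := by
    rw [cov_eq hM hB hθ hinv]
    exact ⟨θ, rfl⟩
  have h2 := df_le hM hc (defect_cov hM hB hD hc) hθ
  rwa [card_sub inf_le_right] at h2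

end TT

/-- **[DQ]** -/
theorem boxDQ {p : ℕ} [Fact p.Prime] {M : Ideal AlgInt} : BoxDQ p M := by
  intro hM G _ _ N hN B D hB hD ih θ hθ hf h0
  have hinv : ∀ (g : G) (n : N), (θ : N → ℂ) ⟨g * n * g⁻¹, hN.conj_mem n n.2 g⟩ = (θ : N → ℂ) n :=
    fun g n => hf g n _ rfl
  have h1 := TT.df_le_inf hM hB hD hθ hinv
  obtain ⟨h2, -⟩ := TB.tb1 hM hB hD hinv hθ (fun χ hχ hov => by
    have h3 := h0 χ hχ hov
    unfold nc at h3
    omega) fun H _ _ hH => TT.bz_of_ihz ih H hH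
  exact Subgroup.commutator_le.2 h2

end Cfsg.Agent.BH
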