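import Cfsg.Agent.BH.TT.Star

/-!
# BH (S4524): the box TT (helper35)
-/

set_option autoImplicit false
set_option linter.style.haveILetI false
set_option linter.unusedSectionVars false

open Cfsg
open scoped commutatorElement

namespace Cfsg.Agent.BH

open Cfsg.Agent Cfsg.Agent.Characters.Core Cfsg.Agent.Blocks Cfsg.Agent.TID.Red Cfsg.Agent.KM.BK Cfsg.Agent.KM.Mu
open Cfsg.Agent.H592.Har Cfsg.Agent.H658.KKL.FongTwo
open Cfsg.Agent.H622.Over (Lies)

namespace TT

variable {p : ℕ} [Fact p.Prime] {M : Ideal AlgInt}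
  {G : Type} [Group G] [Finite G] {T N H : Subgroup G} {θ θ' : G → ℂ} {W : Type} [Group W] [Finite W]
  (m : Match p M T N H θ θ' W) (hNT : N ≤ T)

/-- the common quotient -/
abbrev YY : Type := W ⧸ (cover m hNT).s.range

theorem mk_eq_one (w : W) : (w : YY m hNT) = 1 ↔ w ∈ m.s.range := by
  rw [QuotientGroup.eq_one_iff, range_cover]

theorem mk_s (n : N) (w : W) : (((m.s n)⁻¹ * w : W) : YY m hNT) = w := by
  rw [QuotientGroup.mk_mul, QuotientGroup.mk_inv, (mk_eq_one m hNT _).2 ⟨n, rfl⟩, inv_one, one_mul]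

theorem psi_one : m.ψ 1 = θ 1 := by simpa using m.ext 1

theorem psi_one' : m.ψ' 1 = θ' 1 := by simpa using m.ext' 1 H.one_mem

/-- the value of a central character -/
theorem val_lies {Y : Type} [Group Y] [Finite Y] {Z : Subgroup Y} {c : Z →* ℂˣ} {η : IrrCharacter Y}
    (hc : Lies Z c (η : Y → ℂ)) (z : Z) {a b x : ℂ} (h1 : x = a * (η : Y → ℂ) z) (h2 : x = b * (η : Y → ℂ) 1) :
    a * c z = b := by
  have h3 := hc 1 z
  rw [one_mul] at h3
  rw [h1, h3] at h2
  refine mul_right_cancel₀ (isIrr_apply_one_ne_zero η.2) ?_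
  linear_combination h2

variable {χ' : IrrCharacter (T ⊓ H : Subgroup G)} {η' : IrrCharacter (YY m hNT)}
  (h' : ∀ w : (T ⊓ H).comap m.π, (χ' : (T ⊓ H : Subgroup G) → ℂ) ⟨m.π w, w.2⟩ =
    m.ψ' w * (η' : YY m hNT → ℂ) ((w : W) : YY m hNT))

include h'

theorem val' {k : W} (hk : m.π k = 1) :
    (χ' : (T ⊓ H : Subgroup G) → ℂ) 1 = m.ψ' k * (η' : YY m hNT → ℂ) (k : YY m hNT) := by
  rw [← h' ⟨k, show m.π k ∈ T ⊓ H from hk ▸ one_mem _⟩]
  exact congrArg _ (Subtype.ext hk.symm)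

/-- a character over `θ` in the same block of the quotient -/
theorem exists_chi (hM : IsPModular p M) (hθ : IsIrrCharacter N fun n => θ n)
    (hθ' : IsIrrCharacter (N ⊓ H : Subgroup G) fun n => θ' n) :
    ∃ (χ : IrrCharacter T) (η : IrrCharacter (YY m hNT)), η ∈ blockOf M (η' : YY m hNT → ℂ) ∧
      ∀ x : W, (χ : T → ℂ) ((cover m hNT).π x) = m.ψ x * (η : YY m hNT → ℂ) x := by
  have := Local.isPrime_of_isPModular hM
  letI := Fintype.ofFinite (N.subgroupOf T)
  haveI := normal m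
  set C := cover m hNT with hC
  have hθT : IsIrrCharacter (N.subgroupOf T) fun n => θ ((n : T) : G) :=
    isIrr_comp (Subgroup.subgroupOfEquivOfLe hNT).toMonoidHom (Subgroup.subgroupOfEquivOfLe hNT).surjective hθ
  obtain ⟨χ0, h0⟩ := Over.exists_over (N.subgroupOf T) ⟨_, hθT⟩
  obtain ⟨η0, h1⟩ := C.exists_star hθT χ0 h0
  obtain ⟨c, hc⟩ := H622.Over.exists_hom C.Z_le_center η0.2
  obtain ⟨c', hc'⟩ := H622.Over.exists_hom C.Z_le_center η'.2
  obtain ⟨η, hη, h2⟩ := exists_lies hM C.Z_le_center (b := blockOf M (η' : YY m hNT → ℂ)) ⟨η', rfl⟩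
    (Basic.mem_blockOf_self η') (c := c) hc' fun z hz => by
      obtain ⟨k, hkz, hk⟩ := exists_reg_lift (p := p)
        ((QuotientGroup.mk' C.s.range).subgroupMap_surjective C.π.ker) (g := z⁻¹) (fun h3 => hz (orderOf_inv z ▸ h3))
      have h3 : m.π k = 1 := congrArg Subtype.val (show C.π k = 1 from k.2)
      have h4 := m.cong k (by rwa [Subgroup.orderOf_coe])
      have h5 : cls m.s (k : W) = {(k : W)} := by
        ext v
        constructor
        · rintro ⟨n, rfl⟩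
          rw [Set.mem_singleton_iff, Subgroup.mem_center_iff.1 (m.cen h3), mul_inv_cancel_right]
        · rintro rfl
          exact ⟨1, by rw [map_one, one_mul, inv_one, mul_one]⟩
      rw [h5, Set.inter_eq_left.2 (Set.singleton_subset_iff.2
        (show (k : W) ∈ {v | m.π v ∈ H} from show m.π k ∈ H from h3 ▸ one_mem _)),
        finsum_mem_singleton, finsum_mem_singleton] at h4
      have h6 := val_lies hc ((QuotientGroup.mk' C.s.range).subgroupMap C.π.ker k) (h1 k)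
        ((congrArg _ (show C.π k = C.π 1 from k.2.trans (map_one _).symm)).trans (h1 1))
      have h7 := val_lies hc' ((QuotientGroup.mk' C.s.range).subgroupMap C.π.ker k) (val' m hNT h' h3)
        (val' m hNT h' (map_one _))
      change m.ψ k * _ = m.ψ 1 at h6
      rw [psi_one] at h6
      rw [psi_one'] at h7
      have h8 : θ 1 ≠ 0 := by exact isIrr_apply_one_ne_zero (G := N) hθ
      have h9 : θ' 1 ≠ 0 := by exact isIrr_apply_one_ne_zero (G := (N ⊓ H : Subgroup G)) hθ'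
      rw [hkz] at h6 h7
      replace h6 : m.ψ k * ((c z : ℂ))⁻¹ = θ 1 := by rw [← h6, ← Units.val_inv_eq_inv_val, ← map_inv]; rfl
      replace h7 : m.ψ' k * ((c' z : ℂ))⁻¹ = θ' 1 := by rw [← h7, ← Units.val_inv_eq_inv_val, ← map_inv]; rfl
      refine Local.memLocalIdeal_sub_comm ?_
      convert h4 using 2
      · rw [← h6, div_mul_cancel_left₀ (left_ne_zero_of_mul (h6 ▸ h8)), inv_inv]
      · rw [← h7, div_mul_cancel_left₀ (left_ne_zero_of_mul (h7 ▸ h9)), inv_inv]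
  obtain ⟨χ, h3⟩ := TB.descend' C hθT h1 (η' := η) fun z hz => by
    have h3 := hc 1 ⟨z, hz⟩
    have h4 := h2 1 ⟨z, hz⟩
    rw [one_mul] at h3 h4
    rw [h3, h4]
    ring
  exact ⟨χ, η, hη, h3⟩

/-- the blocks on both sides -/
theorem mem_iff (hM : IsPModular p M) (hT : T ≤ N ⊔ (T ⊓ H)) (hθ : IsIrrCharacter N fun n => θ n)
    {χ : IrrCharacter T} {η : IrrCharacter (YY m hNT)} (hη : η ∈ blockOf M (η' : YY m hNT → ℂ))
    (h : ∀ x : W, (χ : T → ℂ) ((cover m hNT).π x) = m.ψ x * (η : YY m hNT → ℂ) x)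
    {c : Set (IrrCharacter T)} (hc : IsPBlock M c) :
    χ ∈ c ↔ ¬ MemLocalIdeal M (∑ᶠ g : (T ⊓ H : Subgroup G), blockCoeff c ⟨g, g.2.1⟩ *
      (χ' : (T ⊓ H : Subgroup G) → ℂ) g / (χ' : (T ⊓ H : Subgroup G) → ℂ) 1) := by
  classical
  have := Local.isPrime_of_isPModular hM
  letI := Fintype.ofFinite T
  letI := Fintype.ofFinite (T ⊓ H : Subgroup G)
  haveI := normal m
  have hθT : IsIrrCharacter (N.subgroupOf T) fun n => θ ((n : T) : G) :=
    isIrr_comp (Subgroup.subgroupOfEquivOfLe hNT).toMonoidHom (Subgroup.subgroupOfEquivOfLe hNT).surjective hθ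
  have hR := Osima.memLocalRing_blockCoeff hM hc
  set F : T → ℂ := fun t => if ht : (t : G) ∈ H then
    (χ' : (T ⊓ H : Subgroup G) → ℂ) ⟨t, t.2, ht⟩ / (χ' : (T ⊓ H : Subgroup G) → ℂ) 1 else 0 with hF
  have key := omega_cong (cover m hNT) hM hθT
    (ψ2 := Set.indicator {v | m.π v ∈ H} fun v => m.ψ' v / θ' 1) (fun y => by
      obtain ⟨w, rfl⟩ := QuotientGroup.mk_surjective y
      obtain ⟨n, hn⟩ := decomp m hT w
      refine ⟨_, mk_s m hNT n w, fun v => ?_⟩
      generalize (m.s n)⁻¹ * w = e at hn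
      by_cases hv : m.π v ∈ H
      · rw [Set.indicator_of_mem (s := {v | m.π v ∈ H}) hv, Set.indicator_of_mem]
        · exact congrArg (· / θ' 1) (isIrr_isClassFunction m.irr' ⟨v, hv⟩ ⟨e, hn⟩)
        · change m.π _ ∈ H
          rw [map_mul, map_mul, map_inv]
          exact H.mul_mem (H.mul_mem hn hv) (H.inv_mem hn)
      · rw [Set.indicator_of_notMem (s := {v | m.π v ∈ H}) hv, Set.indicator_of_notMem]
        change m.π _ ∉ H
        rwa [map_mul, map_mul, map_inv, H.mul_mem_cancel_right (H.inv_mem hn), H.mul_mem_cancel_left hn])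
    (fun w hw => by
      have h1 := m.cong w hw
      rw [finsum_mem_def (_ ∩ _), ← Set.indicator_indicator, ← finsum_mem_def, ← psi_one m] at h1
      rwa [cls_cover])
    (Basic.sameBlock_symm hη) (F := F) h (fun x => by
      by_cases hx : m.π x ∈ H
      · rw [Set.indicator_of_mem (s := {v | m.π v ∈ H}) hx, show F ((cover m hNT).π x) = _ from dif_pos hx,
          ← mul_div_mul_comm, ← h' ⟨x, mem_T m x, hx⟩, val' m hNT h' (map_one _), psi_one']
        rfl
      · rw [Set.indicator_of_notMem (s := {v | m.π v ∈ H}) hx, zero_mul]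
        exact dif_neg hx)
    (Osima.isClassFunction_blockCoeff c) hR (fun g hg => by
      rw [Basic.blockCoeff_def, Orthogonality.weak_block_orthogonality hM c hR (by
        rw [orderOf_one, Nat.dvd_one]
        exact (Fact.out : p.Prime).ne_one) hg, mul_zero])
  rw [finsum_eq_sum_of_fintype, Fintype.sum_of_injective (Subgroup.inclusion inf_le_left)
    (Subgroup.inclusion_injective _) _ (fun g => blockCoeff c g * F g) (fun g hg => by
      rw [show F g = 0 from dif_neg fun h1 => hg ⟨⟨g, g.2, h1⟩, rfl⟩, mul_zero]) (fun g => by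
      rw [mul_div_assoc, show F (Subgroup.inclusion inf_le_left g) = _ from dif_pos g.2.2]
      rfl), ← key]
  simp only [← mul_div_assoc]
  rw [← Finset.sum_div, Fong.sum_blockCoeff_mul]
  split_ifs with h1
  · rw [div_self (isIrr_apply_one_ne_zero χ.2)]
    exact iff_of_true h1 Local.not_memLocalIdeal_one
  · rw [zero_div]
    exact iff_of_false h1 (not_not.2 Local.memLocalIdeal_zero)

/-- the central character extends -/
theorem exists_ext (hT : T ≤ N ⊔ (T ⊓ H)) (hθ' : IsIrrCharacter (N ⊓ H : Subgroup G) fun n => θ' n)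
    {D : Subgroup G} (hD : D ≤ T) (hext : ExtTo (N ⊓ H) ((N ⊔ D) ⊓ H) fun n => θ' n) {R : Subgroup W}
    (hR : ∀ r ∈ R, m.π r ∈ D) {c' : (cover m hNT).Z →* ℂˣ} (hc' : Lies _ c' (η' : YY m hNT → ℂ)) :
    ∃ μ : R.map (QuotientGroup.mk' (cover m hNT).s.range) →* ℂˣ,
      ∀ (z : (cover m hNT).Z) (hz : (z : YY m hNT) ∈ R.map (QuotientGroup.mk' _)), μ ⟨z, hz⟩ = c' z := by
  obtain ⟨ξ, h1, h2⟩ := hext
  have h3 : N ⊓ H ≤ (N ⊔ D) ⊓ H := inf_le_inf_right _ le_sup_left
  letI := Fintype.ofFinite ((N ⊓ H).subgroupOf ((N ⊔ D) ⊓ H))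
  set ρ := (QuotientGroup.mk' (cover m hNT).s.range).subgroupMap (((N ⊔ D) ⊓ H).comap m.π) with hρ
  obtain ⟨η, h4, -⟩ := star' m h3 (inf_le_inf_right _ (sup_le hNT hD)) hθ' ⟨_, h1⟩ (by
    refine (ov_subtype_iff _ _ _).2 ?_
    refine Eq.trans_ne (Eq.trans ?_ (classInner_irr_self (irr_sub h3 hθ'))) one_ne_zero
    exact congrArg (classInner · _) (funext fun n => h2 ⟨_, n.2⟩)) ρ (MonoidHom.subgroupMap_surjective _ _)
    fun w => Subtype.ext_iff.trans (mk_eq_one m hNT w)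
  have h9 : θ' 1 ≠ 0 := by exact isIrr_apply_one_ne_zero (G := (N ⊓ H : Subgroup G)) hθ'
  have h5 : ∀ k (hk : m.π k = 1),
      θ' 1 = m.ψ' k * η.1 (ρ ⟨k, show m.π k ∈ (N ⊔ D) ⊓ H from hk ▸ one_mem _⟩) := fun k hk => by
    refine Eq.trans ?_ (h4 ⟨k, _⟩)
    change _ = ξ (m.π k)
    rw [hk]
    exact (h2 1).symm
  obtain ⟨f, hf⟩ := Characters.Linear.exists_hom_of_isIrrCharacter η.2 (by
    have h6 := h5 1 (map_one _)
    rw [psi_one', show ρ ⟨1, _⟩ = 1 from map_one ρ] at h6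
    exact (mul_eq_left₀ h9).1 h6.symm)
  have h6 : R.map (QuotientGroup.mk' (cover m hNT).s.range) ≤
      (((N ⊔ D) ⊓ H).comap m.π).map (QuotientGroup.mk' (cover m hNT).s.range) := by
    rintro _ ⟨r, hr, rfl⟩
    obtain ⟨n, hn⟩ := decomp m hT r
    refine ⟨_, ⟨?_, hn⟩, mk_s m hNT n r⟩
    rw [map_mul, map_inv, m.sec]
    exact (N ⊔ D).mul_mem ((N ⊔ D).inv_mem (le_sup_left (b := D) n.2)) (le_sup_right (a := N) (hR r hr))
  refine ⟨f.comp (Subgroup.inclusion h6), ?_⟩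
  rintro ⟨_, k, hk, rfl⟩ hz
  have h7 : m.π k = 1 := congrArg Subtype.val (show (cover m hNT).π k = 1 from hk)
  have h8 := val_lies hc' ⟨_, k, hk, rfl⟩ (val' m hNT h' h7) (val' m hNT h' (map_one _))
  have h10 := h5 k h7
  rw [psi_one', h10, hf] at h8
  refine Units.ext (mul_left_cancel₀ (left_ne_zero_of_mul (h10 ▸ h9)) h8).symm

end TT

/-- **[TT]** -/
theorem boxTT {p : ℕ} [Fact p.Prime] {M : Ideal AlgInt} : BoxTT p M := by
  intro hM km G _ _ T N H θ θ' hNT hT hθ hθ' ⟨W, _, _, ⟨m⟩⟩ ih B D hDT hB hD h0 d1 d2 hext χ' hχ'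
  have := Local.isPrime_of_isPModular hM
  letI := Fintype.ofFinite (N.subgroupOf T)
  haveI := TT.normal m
  set C := TT.cover m hNT with hC
  have hθT : IsIrrCharacter (N.subgroupOf T) fun n => θ ((n : T) : G) :=
    isIrr_comp (Subgroup.subgroupOfEquivOfLe hNT).toMonoidHom (Subgroup.subgroupOfEquivOfLe hNT).surjective hθ
  obtain ⟨η', h', hd'⟩ := TT.star' m (inf_le_inf_right H hNT) le_rfl hθ' χ' hχ'
    ((QuotientGroup.mk' C.s.range).comp ((T ⊓ H).comap m.π).subtype) (fun y => by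
      obtain ⟨w, rfl⟩ := QuotientGroup.mk_surjective y
      obtain ⟨n, hn⟩ := TT.decomp m hT w
      exact ⟨⟨_, TT.mem_T m _, hn⟩, TT.mk_s m hNT n w⟩) fun w => TT.mk_eq_one m hNT w
  obtain ⟨χ, η, hη, h⟩ := TT.exists_chi m hNT h' hM hθ hθ'
  have hres := res_eq C h
  have hov : Over T N (χ : T → ℂ) θ := (ov_subtype_iff _ _ _).2 (by
    have h3 : (fun n : N.subgroupOf T => (χ : T → ℂ) n) =
        (η : TT.YY m hNT → ℂ) 1 • fun n : N.subgroupOf T => θ ((n : T) : G) :=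
      funext fun n => (hres n).trans (mul_comm _ _)
    rw [h3, classInner_smul_left, classInner_irr_self hθT, mul_one]
    exact isIrr_apply_one_ne_zero η.2)
  refine ⟨⟨χ, hov, fun c hc => TT.mem_iff m hNT h' hM hT hθ hη h hc⟩, fun hu => ?_⟩
  have hχ : χ ∈ B := (TT.mem_iff m hNT h' hM hT hθ hη h hB).2 hu
  have hDp := H592.Defect.isPGroup_of_isDefectGroup hD
  have hc1 : Nat.card (D.subgroupOf T) = Nat.card D := card_sub hDT
  have hc2 : Nat.card (D.subgroupOf T ⊓ N.subgroupOf T : Subgroup T) = Nat.card (D ⊓ N : Subgroup G) := by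
    rw [TB.card_inf_sub, Subgroup.subgroupOf_map_subtype, inf_eq_left.2 hDT]
  obtain ⟨R, hR, hRD, hRc⟩ := exists_R C.surj hDp
  obtain ⟨y, hy, hs⟩ := TB.syl C hM hθT hB hD hχ h hR hRD hRc
  have hb : IsPBlock M (blockOf M (η' : TT.YY m hNT → ℂ)) := ⟨η', rfl⟩
  have h4 := TB.fac_R C hDp hR hRD hRc
  have hk : C.π.ker = m.π.ker := TT.ker_cover m hNT
  rw [hc1, hc2, hk] at h4
  unfold nc at d1 d2 hd' h0 ⊢
  have hd := defect_of_unit hM hb hη hy hs (by
    have h5 := TB.df_star (p := p) (θ := ⟨_, hθT⟩) C h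
    have h6 := h0 χ hχ hov
    have h7 := df_add (p := p) (⟨_, hθT⟩ : IrrCharacter (N.subgroupOf T))
    rw [card_sub hNT] at h7
    change _ + (charDegree θ).factorization p = _ at h7
    rw [hk] at h5
    omega)
  have hab := boxDQ hM T (N.subgroupOf T) B _ hB hD ih ⟨_, hθT⟩ ⟨χ, hχ, hov⟩ (fun g n n' hn => by
    refine mul_right_cancel₀ (isIrr_apply_one_ne_zero η.2) ((hres n').symm.trans (Eq.trans ?_ (hres n)))
    rw [hn, isIrr_isClassFunction χ.2]) fun φ hφ h1 => by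
      unfold nc
      rw [hc1]
      exact h0 φ hφ h1
  obtain ⟨c', hc'⟩ := H622.Over.exists_hom C.Z_le_center η'.2
  have hcj : cj 1 D = D := by
    rw [cj, map_one]
    exact Subgroup.map_id D
  obtain ⟨μ, hμ⟩ := TT.exists_ext m hNT h' hT hθ' hDT (hcj ▸ hext 1 T.one_mem) (R := R)
    (fun r hr => hRD.le ⟨r, hr, rfl⟩) hc'
  have h5 := TT.df_of_height hM hb hd (Basic.mem_blockOf_self η') (s4999_of km M hM _ hb _ hd
    (C.Z ⊓ R.map (QuotientGroup.mk' C.s.range)) (inf_le_left.trans C.Z_le_center) ((hR.map _).to_le inf_le_right)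
    inf_le_right (c'.comp (Subgroup.inclusion inf_le_left)) (le_inf (Subgroup.commutator_le.2 (by
      rintro _ ⟨a, ha, rfl⟩ _ ⟨b, hb, rfl⟩
      rw [← map_commutatorElement]
      refine C.mem_Z_of_mem ?_
      rw [map_commutatorElement]
      exact hab (Subgroup.commutator_mem_commutator (hRD.le ⟨a, ha, rfl⟩) (hRD.le ⟨b, hb, rfl⟩))))
      (Subgroup.commutator_le_self _)) ⟨μ, fun z => hμ ⟨z, z.2.1⟩ z.2.2⟩ η' (Basic.mem_blockOf_self η') fun z => by
        have h5 := hc' 1 ⟨z, z.2.1⟩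
        rwa [one_mul] at h5)
  omega

end Cfsg.Agent.BH
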