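import Cfsg.Agent.BH.TT.W
import Cfsg.Agent.H622.Over
import Cfsg.Agent.Blocks.Over

/-!
# BH (S4524), box TT: the covers of a match (helper35)

* `exists_lies` : a block contains members over all central characters with the right `p'`-part;
* `cover`, `star'` : the two correspondences.
-/

set_option autoImplicit false
set_option linter.style.haveILetI false
set_option linter.unusedSectionVars false

open Cfsg

namespace Cfsg.Agent.BH.TT

open Cfsg.Agent Cfsg.Agent.Characters.Core Cfsg.Agent.Blocks Cfsg.Agent.TID.Red Cfsg.Agent.KM.BK Cfsg.Agent.KM.Mu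
open Cfsg.Agent.H592.Har Cfsg.Agent.H658.KKL.FongTwo
open Cfsg.Agent.H622.Over (Lies)
open Cfsg.Agent.H592.Transport (tr tr_apply)

variable {p : ℕ} [Fact p.Prime] {M : Ideal AlgInt}

theorem df_of_height {G : Type} [Group G] [Finite G] {B : Set (IrrCharacter G)} {D : Subgroup G}
    (hM : IsPModular p M) (hB : IsPBlock M B) (hD : IsDefectGroup p M B D) {χ : IrrCharacter G}
    (hχ : χ ∈ B) (h : blockHeight p B (χ : G → ℂ) = 0) : df p χ = (Nat.card D).factorization p := by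
  have h1 := H592.Defect.factorization_card_defect p hM hB hD
  have h2 := df_add (p := p) χ
  have h4 : sInf ((fun ψ : IrrCharacter G => (charDegree (ψ : G → ℂ)).factorization p) '' B) ≤ nu p χ :=
    Nat.sInf_le ⟨_, hχ, rfl⟩
  unfold blockDefect at h1
  unfold blockHeight at h
  change nu p χ - _ = 0 at h
  omega

theorem ring_hom [M.IsPrime] {Z : Type} [Group Z] [Finite Z] (c : Z →* ℂˣ) (z : Z) : MemLocalRing M (c z : ℂ) :=
  Local.memLocalRing_of_isIntegral (Elementary.isIntegral_char (Characters.Linear.isIrrCharacter_hom c) z)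

theorem sameBlock_hom (hM : IsPModular p M) {Z : Type} [Group Z] [Finite Z] {c c' : Z →* ℂˣ}
    (h : ∀ z, ¬ p ∣ orderOf z → MemLocalIdeal M ((c z : ℂ) - c' z)) :
    SameBlock M (fun z => (c z : ℂ)) fun z => (c' z : ℂ) := by
  have := Local.isPrime_of_isPModular hM
  intro z
  obtain ⟨a, y, rfl, -, ⟨k, h1⟩, h2⟩ := PPart.exists_isPPart p z
  have h3 : ∀ d : Z →* ℂˣ, MemLocalIdeal M ((d (a * y) : ℂ) - d y) := fun d => by
    have h4 := H613.Contrib.memLocalIdeal_root_sub_one hM (e := (d a : ℂ)) (j := k) (by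
      rw [← Units.val_pow_eq_pow_val, ← map_pow, ← h1, pow_orderOf_eq_one, map_one, Units.val_one])
    have h5 := Local.memLocalIdeal_mul_right h4 (ring_hom d y)
    rwa [sub_mul, one_mul, ← Units.val_mul, ← map_mul] at h5
  unfold centralChar
  simp only [map_one, Units.val_one, div_one]
  rw [← mul_sub]
  exact Local.memLocalIdeal_mul_left (Local.memLocalRing_natCast _) (Local.memLocalIdeal_sub_trans
    (Local.memLocalIdeal_sub_trans (h3 c) (h y h2)) (Local.memLocalIdeal_sub_comm (h3 c')))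

theorem exists_lies (hM : IsPModular p M) {Y : Type} [Group Y] [Finite Y] {Z : Subgroup Y}
    (hZ : Z ≤ Subgroup.center Y) {b : Set (IrrCharacter Y)} (hb : IsPBlock M b) {η' : IrrCharacter Y} (h' : η' ∈ b)
    {c c' : Z →* ℂˣ} (hc : Lies Z c' (η' : Y → ℂ))
    (h : ∀ z, ¬ p ∣ orderOf z → MemLocalIdeal M ((c' z : ℂ) - c z)) : ∃ η ∈ b, Lies Z c (η : Y → ℂ) := by
  have := Local.isPrime_of_isPModular hM
  letI := Fintype.ofFinite Y
  letI := Fintype.ofFinite Z
  haveI := TB.normal_of_le hZ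
  obtain ⟨η, h1, h2⟩ := S4432.result p M hM Z b hb (blockOf M fun z => (c' z : ℂ))
    ⟨⟨_, Characters.Linear.isIrrCharacter_hom c'⟩, rfl⟩
    ⟨η', h', ⟨_, Characters.Linear.isIrrCharacter_hom c'⟩,
      Basic.mem_blockOf_self (⟨_, Characters.Linear.isIrrCharacter_hom c'⟩ : IrrCharacter Z),
      (H622.Over.lies_iff_classInner hZ c' η'.2).1 hc⟩
    ⟨_, Characters.Linear.isIrrCharacter_hom c⟩ (sameBlock_hom hM h)
  exact ⟨η, h1, (H622.Over.lies_iff_classInner hZ c η.2).2 h2⟩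

theorem ne_central {E : Type} [Group E] [Finite E] {ψ : E → ℂ} (h : IsIrrCharacter E ψ) {z : E}
    (hz : z ∈ Subgroup.center E) : ψ z ≠ 0 := by
  letI := Fintype.ofFinite E
  obtain ⟨c, h1, h2⟩ := CharDeep.DegreeBound.exists_omega h hz
  have h3 := h2 1
  rw [one_mul] at h3
  rw [h3]
  refine mul_ne_zero (fun h4 => ?_) (isIrr_apply_one_ne_zero h)
  rw [h4, norm_zero] at h1
  exact zero_ne_one h1

variable {G : Type} [Group G] [Finite G] {T N H : Subgroup G} {θ θ' : G → ℂ} {W : Type} [Group W] [Finite W]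
  (m : Match p M T N H θ θ' W)

theorem mem_T (w : W) : m.π w ∈ T := m.range.le ⟨w, rfl⟩

theorem exists_pre {t : G} (h : t ∈ T) : ∃ w, m.π w = t := m.range.ge h

include m in
theorem normal : (N.subgroupOf T).Normal := ⟨fun n hn t => by
  obtain ⟨w, hw⟩ := exists_pre m t.2
  obtain ⟨n', h⟩ := m.normal.conj_mem _ ⟨⟨n, hn⟩, rfl⟩ w
  have h1 := congrArg m.π h
  rw [m.sec, map_mul, map_mul, map_inv, m.sec, hw] at h1
  change (t : G) * n * (t : G)⁻¹ ∈ N
  exact h1 ▸ n'.2⟩

/-- the cover of `(T, N, θ)` -/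
def cover (hNT : N ≤ T) : Cover 0 (N.subgroupOf T) (fun n => θ ((n : T) : G)) W where
  π := m.π.codRestrict T (mem_T m)
  s := m.s.comp (Subgroup.subgroupOfEquivOfLe hNT).toMonoidHom
  ψ := m.ψ
  surj := fun t => (exists_pre m t.2).imp fun _ h => Subtype.ext h
  ker_le := by
    rw [MonoidHom.ker_codRestrict]
    exact m.cen
  ker_p := fun h => Nat.card_pos.ne' (zero_dvd_iff.1 h)
  sec := fun n => Subtype.ext (m.sec _)
  normal := by
    rw [MonoidHom.range_comp, MonoidHom.range_eq_top.2 (Subgroup.subgroupOfEquivOfLe hNT).surjective,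
      ← MonoidHom.range_eq_map]
    exact m.normal
  irr := m.irr
  ext := fun n => m.ext _
  ne := fun z hz => ne_central m.irr (m.cen (by rwa [MonoidHom.ker_codRestrict] at hz))

theorem range_cover (hNT : N ≤ T) : (cover m hNT).s.range = m.s.range := by
  change (m.s.comp (Subgroup.subgroupOfEquivOfLe hNT).toMonoidHom).range = _
  rw [MonoidHom.range_comp, MonoidHom.range_eq_top.2 (Subgroup.subgroupOfEquivOfLe hNT).surjective,
    ← MonoidHom.range_eq_map]

theorem ker_cover (hNT : N ≤ T) : (cover m hNT).π.ker = m.π.ker := MonoidHom.ker_codRestrict _ _ _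

theorem cls_cover (hNT : N ≤ T) (w : W) : cls (cover m hNT).s w = cls m.s w := by
  ext v
  constructor
  · rintro ⟨n, rfl⟩
    exact ⟨_, rfl⟩
  · rintro ⟨n, rfl⟩
    exact ⟨⟨⟨n, hNT n.2⟩, n.2⟩, rfl⟩

/-- the section over `N ∩ H` -/
def sec' {X : Subgroup G} : (N ⊓ H).subgroupOf X →* X.comap m.π :=
  (m.s.comp ((X.subtype.comp ((N ⊓ H).subgroupOf X).subtype).codRestrict N fun n => n.2.1)).codRestrict _
    fun n => by
      rw [Subgroup.mem_comap, MonoidHom.comp_apply, m.sec]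
      exact n.1.2

theorem mem_range_sec' {X : Subgroup G} (hX : X ≤ T ⊓ H) (w : X.comap m.π) :
    w ∈ (sec' m).range ↔ (w : W) ∈ m.s.range := by
  constructor
  · rintro ⟨n, rfl⟩
    exact ⟨_, rfl⟩
  · rintro ⟨n, hn⟩
    have h1 : (n : G) ∈ X := by
      rw [← m.sec n, hn]
      exact w.2
    exact ⟨⟨⟨n, h1⟩, n.2, (hX h1).2⟩, Subtype.ext hn⟩

theorem irr_sub {X : Subgroup G} (h1 : N ⊓ H ≤ X) (hθ' : IsIrrCharacter (N ⊓ H : Subgroup G) fun n => θ' n) :
    IsIrrCharacter ((N ⊓ H).subgroupOf X) fun n => θ' ((n : X) : G) :=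
  isIrr_comp (Subgroup.subgroupOfEquivOfLe h1).toMonoidHom (Subgroup.subgroupOfEquivOfLe h1).surjective hθ'

/-- the cover of `(X, N ∩ H, θ')` -/
def cover' {X : Subgroup G} (h1 : N ⊓ H ≤ X) (hX : X ≤ T ⊓ H)
    (hθ' : IsIrrCharacter (N ⊓ H : Subgroup G) fun n => θ' n) :
    Cover 0 ((N ⊓ H).subgroupOf X) (fun n => θ' ((n : X) : G)) (X.comap m.π) :=
  have hi : IsIrrCharacter (X.comap m.π) fun w => m.ψ' w := by
    refine H595.Triple.isIrr_of_comp (sec' m) ?_ ?_
    · obtain ⟨n, ρ, hρ⟩ := isIrr_isCharacter m.irr'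
      refine ⟨n, ρ.comp (Subgroup.inclusion (Subgroup.comap_mono (hX.trans inf_le_right))), funext fun w => ?_⟩
      exact congrFun hρ (Subgroup.inclusion (Subgroup.comap_mono (hX.trans inf_le_right)) w)
    · convert irr_sub h1 hθ' using 1
      exact funext fun n => m.ext' _ n.2.2
  have hk : (m.π.subgroupComap X).ker ≤ Subgroup.center (X.comap m.π) := fun z hz =>
    Subgroup.mem_center_iff.2 fun g => Subtype.ext
      (Subgroup.mem_center_iff.1 (m.cen (show m.π z = 1 from congrArg Subtype.val hz)) g)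
  { π := m.π.subgroupComap X
    s := sec' m
    ψ := fun w => m.ψ' w
    surj := fun t => by
      obtain ⟨w, hw⟩ := exists_pre m (hX t.2).1
      exact ⟨⟨w, show m.π w ∈ X from hw ▸ t.2⟩, Subtype.ext hw⟩
    ker_le := hk
    ker_p := fun h => Nat.card_pos.ne' (zero_dvd_iff.1 h)
    sec := fun n => Subtype.ext (m.sec _)
    normal := ⟨fun a ha g => (mem_range_sec' m hX _).2 (m.normal.conj_mem _ ((mem_range_sec' m hX _).1 ha) g)⟩
    irr := hi
    ext := fun n => m.ext' _ n.2.2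
    ne := fun z hz => ne_central hi (hk hz) }

/-- **The correspondence on the side of `H`.** -/
theorem star' {X : Subgroup G} (h1 : N ⊓ H ≤ X) (hX : X ≤ T ⊓ H)
    (hθ' : IsIrrCharacter (N ⊓ H : Subgroup G) fun n => θ' n) (χ : IrrCharacter X)
    (hχ : Over X (N ⊓ H) (χ : X → ℂ) θ') {Y : Type} [Group Y] [Finite Y] (ρ : X.comap m.π →* Y)
    (hρ : Function.Surjective ρ) (hk : ∀ w, ρ w = 1 ↔ (w : W) ∈ m.s.range) : ∃ η : IrrCharacter Y,
      (∀ w : X.comap m.π, (χ : X → ℂ) ⟨m.π w, w.2⟩ = m.ψ' w * (η : Y → ℂ) (ρ w)) ∧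
      df p χ + nc p m.π.ker + (charDegree θ').factorization p = df p η + nc p (N ⊓ H) := by
  letI := Fintype.ofFinite ((N ⊓ H).subgroupOf X)
  haveI : ((N ⊓ H).subgroupOf X).Normal := ⟨fun n hn t => by
    refine ⟨?_, H.mul_mem (H.mul_mem (hX t.2).2 hn.2) (H.inv_mem (hX t.2).2)⟩
    exact (normal m).conj_mem ⟨n, (hX n.2).1⟩ hn.1 ⟨t, (hX t.2).1⟩⟩
  set C := cover' m h1 hX hθ' with hC
  obtain ⟨η, h⟩ := C.exists_star (irr_sub h1 hθ') χ ((ov_subtype_iff _ _ _).1 hχ)
  set e := QuotientGroup.liftEquiv C.s.range hρ (Subgroup.ext fun w => (mem_range_sec' m hX w).trans (hk w).symm)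
  refine ⟨tr e.symm η, fun w => ?_, ?_⟩
  · rw [tr_apply, show e.symm (ρ w) = w from e.symm_apply_eq.2 rfl]
    exact h w
  · have h2 := TB.df_star (p := p) (θ := ⟨_, irr_sub h1 hθ'⟩) C h
    have h3 := df_add (p := p) (⟨_, irr_sub h1 hθ'⟩ : IrrCharacter ((N ⊓ H).subgroupOf X))
    have h4 : C.π.ker = m.π.ker.subgroupOf (X.comap m.π) := Subgroup.ext fun w => Subtype.ext_iff
    rw [h4, card_sub (Subgroup.ker_le_comap _ _)] at h2
    rw [card_sub h1] at h3
    change _ + (charDegree θ').factorization p = _ at h3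
    rw [TB.df_tr]
    unfold nc
    omega

/-- `W = s(N) π⁻¹(H)` -/
theorem decomp (hT : T ≤ N ⊔ (T ⊓ H)) (w : W) : ∃ n : N, m.π ((m.s n)⁻¹ * w) ∈ H := by
  haveI := m.normal
  have h1 : N ⊔ (T ⊓ H) ≤ (m.s.range ⊔ H.comap m.π).map m.π := by
    refine sup_le (fun n hn => ⟨m.s ⟨n, hn⟩, le_sup_left (b := H.comap m.π) ⟨_, rfl⟩, m.sec _⟩) fun t ht => ?_
    obtain ⟨v, rfl⟩ := exists_pre m ht.1
    exact ⟨v, le_sup_right (a := m.s.range) ht.2, rfl⟩
  obtain ⟨k, hk, h2⟩ := h1 (hT (mem_T m w))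
  obtain ⟨_, ⟨n, rfl⟩, v, hv, rfl⟩ := Subgroup.mem_sup_of_normal_left.1 hk
  refine ⟨n, ?_⟩
  rw [map_mul, map_inv, ← h2, map_mul, inv_mul_cancel_left]
  exact hv

end Cfsg.Agent.BH.TT
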