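import Cfsg.Agent.BH.TT.DQ

/-!
# BH (S4524), box TT: central characters through a cover (helper35)

* `push` : sums over the fibres of a quotient map;
* `exists_m` : sums over the `p`-regular elements of a central extension;
* `omega_cong` : the central characters on both sides of a match are congruent.
-/

set_option autoImplicit false
set_option linter.style.haveILetI false
set_option linter.unusedSectionVars false

open Cfsg

namespace Cfsg.Agent.BH.TT

open Cfsg.Agent Cfsg.Agent.Characters.Core Cfsg.Agent.Blocks Cfsg.Agent.TID.Red Cfsg.Agent.KM.BK Cfsg.Agent.KM.Mu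
open Cfsg.Agent.H592.Har Cfsg.Agent.H658.KKL.FongTwo

variable {p : ℕ} [Fact p.Prime] {M : Ideal AlgInt}

section push

variable {E Y : Type} [Group E] [Fintype E] [Group Y] (ρ : E →* Y)

open Classical in
/-- the sum over a fibre -/
noncomputable def push (f : E → ℂ) (y : Y) : ℂ := ∑ w ∈ Finset.univ.filter (fun w => ρ w = y), f w

theorem sum_push [Fintype Y] (f : E → ℂ) (g : Y → ℂ) : ∑ y, push ρ f y * g y = ∑ w, f w * g (ρ w) := by
  classical
  rw [← Finset.sum_fiberwise Finset.univ ρ]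
  refine Finset.sum_congr rfl fun y _ => ?_
  unfold push
  rw [Finset.sum_mul]
  refine Finset.sum_congr (by congr) fun w hw => ?_
  rw [(Finset.mem_filter.1 hw).2]

theorem push_sub (f g : E → ℂ) (y : Y) : push ρ (fun w => f w - g w) y = push ρ f y - push ρ g y :=
  Finset.sum_sub_distrib _ _

theorem push_class {f : E → ℂ} (h : ∀ y, ∃ e, ρ e = y ∧ ∀ w, f (e * w * e⁻¹) = f w) :
    IsClassFunction Y (push ρ f) := by
  intro g x
  obtain ⟨e, rfl, he⟩ := h x
  unfold push
  symm
  refine Finset.sum_bijective (MulAut.conj e) (MulAut.conj e).bijective (fun w => ?_) fun w _ => (he w).symm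
  simp only [Finset.mem_filter, Finset.mem_univ, true_and, MulAut.conj_apply, map_mul, map_inv]
  constructor
  · rintro rfl
    rfl
  · intro h1
    exact mul_left_cancel (mul_right_cancel h1)

variable {N : Type} [Group N] (s : N →* E)

theorem self_mem_cls (w : E) : w ∈ cls s w := ⟨1, by rw [map_one, one_mul, inv_one, mul_one]⟩

theorem cls_eq {v w : E} (h : v ∈ cls s w) : cls s v = cls s w := by
  obtain ⟨n, rfl⟩ := h
  ext u
  constructor
  · rintro ⟨m, rfl⟩
    exact ⟨m * n, by rw [map_mul]; group⟩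
  · rintro ⟨m, rfl⟩
    exact ⟨m * n⁻¹, by rw [map_mul, map_inv]; group⟩

theorem push_mem (hs : ∀ n, ρ (s n) = 1) {I : ℂ → Prop} (h0 : I 0) (hadd : ∀ a b, I a → I b → I (a + b))
    {f : E → ℂ} (h : ∀ w, I (∑ᶠ v ∈ cls s w, f v)) (y : Y) : I (push ρ f y) := by
  classical
  unfold push
  rw [← Finset.sum_fiberwise_of_maps_to (g := cls s) (t := (Finset.univ.filter fun w => ρ w = y).image (cls s))
    (fun w hw => by convert Finset.mem_image_of_mem (cls s) hw)]
  refine Finset.sum_induction _ I hadd h0 fun K hK => ?_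
  obtain ⟨w, hw, rfl⟩ := Finset.mem_image.1 hK
  have h1 := h w
  rw [finsum_mem_eq_finite_toFinset_sum _ (Set.toFinite _)] at h1
  convert h1 using 2
  ext v
  simp only [Finset.mem_filter, Finset.mem_univ, true_and, Set.Finite.mem_toFinset]
  constructor
  · rintro ⟨-, h2⟩
    exact h2 ▸ self_mem_cls s v
  · intro h2
    refine ⟨?_, cls_eq s h2⟩
    obtain ⟨n, rfl⟩ := h2
    rw [map_mul, map_mul, map_inv, hs, one_mul, inv_one, mul_one]
    exact (Finset.mem_filter.1 hw).2

theorem finsum_cls_mul {ζ : E → ℂ} (hζ : IsClassFunction E ζ) (f : E → ℂ) (w : E) :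
    ∑ᶠ v ∈ cls s w, ζ v * f v = ζ w * ∑ᶠ v ∈ cls s w, f v := by
  rw [finsum_mem_eq_finite_toFinset_sum _ (Set.toFinite _), finsum_mem_eq_finite_toFinset_sum _ (Set.toFinite _),
    Finset.mul_sum]
  refine Finset.sum_congr rfl fun v hv => ?_
  obtain ⟨n, rfl⟩ := (Set.Finite.mem_toFinset _).1 hv
  rw [hζ w (s n)]

end push

/-- a class function with values in the local ideal -/
theorem sum_mem_ideal [M.IsPrime] {Y : Type} [Group Y] [Fintype Y] (η : IrrCharacter Y) {a : Y → ℂ}
    (ha : IsClassFunction Y a) (h : ∀ y, MemLocalIdeal M (a y)) :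
    MemLocalIdeal M (∑ y, a y * ((η : Y → ℂ) y / (η : Y → ℂ) 1)) := by
  obtain ⟨T, hT⟩ := ClassSum.exists_reps (G := Y)
  rw [hT a _ ha]
  refine Local.memLocalIdeal_sum fun t _ => ?_
  rw [ClassSum.finsum_conj_div (isIrr_isClassFunction η.2)]
  exact Local.memLocalIdeal_mul_right (h t) (Elementary.memLocalRing_centralChar η.2 t)

open Classical in
/-- sums over the `p`-regular elements of a central extension -/
theorem exists_m {E G : Type} [Group E] [Fintype E] [Group G] [Fintype G] {π : E →* G}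
    (hs : Function.Surjective π) (hc : π.ker ≤ Subgroup.center E) : ∃ m : ℕ, ¬ p ∣ m ∧
      ∀ F : G → ℂ, (∀ g, p ∣ orderOf g → F g = 0) →
        ∑ w, (if ¬ p ∣ orderOf w then F (π w) else 0) = m * ∑ g, F g := by
  obtain ⟨P⟩ : Nonempty (Sylow p π.ker) := inferInstance
  set Q : Subgroup E := (P : Subgroup π.ker).map π.ker.subtype with hQ
  have hQk : Q ≤ π.ker := Subgroup.map_subtype_le _
  have hQc : Nat.card Q = Nat.card P := Subgroup.card_map_of_injective π.ker.subtype_injective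
  refine ⟨(P : Subgroup π.ker).index, P.not_dvd_index, fun F hF => ?_⟩
  have h1 := sum_reg (P.isPGroup'.map π.ker.subtype) (hQk.trans hc) (fun w => F (π w))
    (fun q hq w => by rw [map_mul, hQk hq, one_mul]) fun w a ha haQ => by
      obtain ⟨y, rfl, h2, ⟨k, h3⟩, h4⟩ := ha
      refine hF _ ?_
      by_contra h5
      have h6 : π a = 1 := by
        refine eq_one_of_coprime (p := p) (k := k) (m := orderOf (π (a * y)) * orderOf y)
          (by rw [← map_pow, ← h3, pow_orderOf_eq_one, map_one]) ?_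
          fun h7 => ((Fact.out : p.Prime).dvd_mul.1 h7).elim h5 h4
        have h7 : π (a * y) ^ (orderOf (π (a * y)) * orderOf y) = 1 := by rw [pow_mul, pow_orderOf_eq_one, one_pow]
        have h8 : π y ^ (orderOf (π (a * y)) * orderOf y) = 1 := by
          rw [mul_comm, pow_mul, ← map_pow, pow_orderOf_eq_one, map_one, one_pow]
        rwa [map_mul π a y, (h2.map π).mul_pow, ← map_mul π a y, h8, mul_one] at h7
      apply haQ
      have h7 : IsPGroup p (Subgroup.zpowers (⟨a, h6⟩ : π.ker)) := by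
        refine IsPGroup.of_card (n := k) ?_
        rw [Nat.card_zpowers, ← h3, ← Subgroup.orderOf_coe]
      haveI : (Subgroup.zpowers (⟨a, h6⟩ : π.ker)).Normal := ⟨fun b hb g => by
        have h8 : g * b = b * g := Subtype.ext (Subgroup.mem_center_iff.1 (hc b.2) g)
        rwa [h8, mul_inv_cancel_right]⟩
      exact ⟨⟨a, h6⟩, h7.le_sylow_of_normal P (Subgroup.mem_zpowers _), rfl⟩
  have h2 : ∑ w, F (π w) = Nat.card π.ker * ∑ g, F g := by
    rw [← Finset.sum_fiberwise Finset.univ π, Finset.mul_sum]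
    refine Finset.sum_congr rfl fun g _ => ?_
    rw [Finset.sum_congr rfl (g := fun _ => F g) (fun w hw => by rw [(Finset.mem_filter.1 hw).2]),
      Finset.sum_const, nsmul_eq_mul]
    obtain ⟨x, rfl⟩ := hs g
    congr 2
    rw [← Nat.card_congr (MonoidHom.fiberEquivKer π x), Nat.card_eq_fintype_card, Fintype.card_subtype]
    rfl
  rw [h2, ← (P : Subgroup π.ker).card_mul_index, Nat.cast_mul, mul_assoc, hQc] at h1
  exact (mul_left_cancel₀ (by exact_mod_cast (Nat.card_pos (α := P)).ne') h1).symm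

variable {G : Type} [Group G] [Finite G] {q : ℕ} {N : Subgroup G} [hN : N.Normal] {θ : N → ℂ}
  {E : Type} [Group E] [Finite E] (C : Cover q N θ E)

/-- the class sums under `s(N)` are local integers -/
theorem ring_cls [M.IsPrime] (hθ : IsIrrCharacter N θ) (w : E) :
    MemLocalRing M (∑ᶠ v ∈ cls C.s w, C.ψ v / C.ψ 1) := by
  set U : Subgroup E := C.s.range ⊔ Subgroup.centralizer ({w} : Set E) with hU
  have hw : w ∈ U := le_sup_right (a := C.s.range) (Subgroup.mem_centralizer_singleton_iff.2 rfl)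
  have h1 := isIrr_res_of_le C hθ U le_sup_left
  have h2 := Elementary.memLocalRing_centralChar (M := M) h1 ⟨w, hw⟩
  rw [← ClassSum.finsum_conj_div (isIrr_isClassFunction h1)] at h2
  rw [← finsum_mem_eq_of_bijOn (s := {y : U | IsConj ⟨w, hw⟩ y}) (f := fun y : U => C.ψ y / C.ψ 1) Subtype.val
    ⟨fun y hy => ?_, Subtype.val_injective.injOn, ?_⟩ fun _ _ => rfl]
  · exact h2
  · rintro _ ⟨n, rfl⟩
    have h3 : C.s n ∈ U := le_sup_left (b := Subgroup.centralizer ({w} : Set E)) ⟨n, rfl⟩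
    exact ⟨⟨C.s n, h3⟩ * ⟨w, hw⟩ * ⟨C.s n, h3⟩⁻¹, isConj_iff.2 ⟨_, rfl⟩, rfl⟩
  · obtain ⟨u, rfl⟩ := isConj_iff.1 hy
    obtain ⟨_, ⟨n, rfl⟩, c, hc, h3⟩ := Subgroup.mem_sup_of_normal_left.1 u.2
    refine ⟨n, ?_⟩
    change (u : E) * w * (u : E)⁻¹ = _
    rw [← h3, mul_assoc _ c, Subgroup.mem_centralizer_singleton_iff.1 hc]
    group

/-- **Central characters on both sides.** -/
theorem omega_cong [Fintype G] (hM : IsPModular p M) (hθ : IsIrrCharacter N θ) {ψ2 : E → ℂ}
    (hinv : ∀ y : E ⧸ C.s.range, ∃ e : E, (e : E ⧸ C.s.range) = y ∧ ∀ w, ψ2 (e * w * e⁻¹) = ψ2 w)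
    (hc : ∀ w, ¬ p ∣ orderOf w → MemLocalIdeal M (∑ᶠ v ∈ cls C.s w, C.ψ v / C.ψ 1 - ∑ᶠ v ∈ cls C.s w, ψ2 v))
    {η η' : IrrCharacter (E ⧸ C.s.range)} (hb : SameBlock M (η : E ⧸ C.s.range → ℂ) (η' : E ⧸ C.s.range → ℂ))
    {χ F : G → ℂ} (h : ∀ x : E, χ (C.π x) = C.ψ x * (η : E ⧸ C.s.range → ℂ) x)
    (h' : ∀ x : E, F (C.π x) = ψ2 x * ((η' : E ⧸ C.s.range → ℂ) x / (η' : E ⧸ C.s.range → ℂ) 1))
    {z : G → ℂ} (hz : IsClassFunction G z) (hzR : ∀ g, MemLocalRing M (z g)) (hz0 : ∀ g, p ∣ orderOf g → z g = 0) :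
    MemLocalIdeal M (∑ g, z g * (χ g / χ 1)) ↔ MemLocalIdeal M (∑ g, z g * F g) := by
  classical
  have := Local.isPrime_of_isPModular hM
  letI := Fintype.ofFinite E
  letI := Fintype.ofFinite (E ⧸ C.s.range)
  obtain ⟨m, hm, h1⟩ := exists_m (p := p) C.surj C.ker_le
  set ζ : E → ℂ := fun w => if ¬ p ∣ orderOf w then z (C.π w) else 0 with hζ
  have hζc : IsClassFunction E ζ := fun g x => by
    have h2 : orderOf (x * g * x⁻¹) = orderOf g := (MulAut.conj x).orderOf_eq g
    simp only [hζ, h2, map_mul, map_inv, hz (C.π g) (C.π x)]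
  have hζR : ∀ w, MemLocalRing M (ζ w) := fun w => by
    simp only [hζ]
    split_ifs
    · exact Local.memLocalRing_zero
    · exact hzR _
  set ρ := QuotientGroup.mk' C.s.range with hρ
  have hs : ∀ n, ρ (C.s n) = 1 := fun n => (QuotientGroup.eq_one_iff _).2 ⟨n, rfl⟩
  have ha1 : IsClassFunction _ (push ρ fun w => ζ w * (C.ψ w / C.ψ 1)) := push_class ρ fun y => by
    obtain ⟨e, rfl⟩ := QuotientGroup.mk'_surjective _ y
    exact ⟨e, rfl, fun w => by rw [hζc w e, isIrr_isClassFunction C.irr w e]⟩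
  have ha2 : IsClassFunction _ (push ρ fun w => ζ w * ψ2 w) := push_class ρ fun y => by
    obtain ⟨e, he, h2⟩ := hinv y
    exact ⟨e, he, fun w => by rw [hζc w e, h2]⟩
  have h2 := ClassSum.memLocalIdeal_of_sameBlock (isIrr_isClassFunction η.2) (isIrr_isClassFunction η'.2) hb ha1
    (push_mem ρ C.s hs Local.memLocalRing_zero (fun _ _ => Local.memLocalRing_add) fun w => by
      rw [finsum_cls_mul C.s hζc]
      exact Local.memLocalRing_mul (hζR w) (ring_cls C hθ w))
  have h3 := sum_mem_ideal (M := M) η' (isClassFunction_sub ha1 ha2) fun y => by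
    rw [Pi.sub_apply, ← push_sub]
    refine push_mem ρ C.s hs Local.memLocalIdeal_zero (fun _ _ => Local.memLocalIdeal_add) (fun w => ?_) y
    simp only [← mul_sub]
    rw [finsum_cls_mul C.s hζc]
    by_cases hw : p ∣ orderOf w
    · rw [show ζ w = 0 from if_neg (not_not.2 hw), zero_mul]
      exact Local.memLocalIdeal_zero
    · refine Local.memLocalIdeal_mul_left (hζR w) ?_
      have h4 := hc w hw
      rw [finsum_mem_eq_finite_toFinset_sum _ (Set.toFinite _),
        finsum_mem_eq_finite_toFinset_sum _ (Set.toFinite _), ← Finset.sum_sub_distrib] at h4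
      rwa [finsum_mem_eq_finite_toFinset_sum _ (Set.toFinite _)]
  simp only [Pi.sub_apply, sub_mul, Finset.sum_sub_distrib] at h3
  have h4 := Local.memLocalIdeal_iff_of_sub (Local.memLocalIdeal_sub_trans h2 h3)
  rw [sum_push, sum_push] at h4
  have h5 := h1 (fun g => z g * (χ g / χ 1)) fun g hg => by rw [hz0 g hg, zero_mul]
  have h6 := h1 (fun g => z g * F g) fun g hg => by rw [hz0 g hg, zero_mul]
  have h7 : χ 1 = C.ψ 1 * (η : E ⧸ C.s.range → ℂ) 1 := by simpa using h 1
  rw [Finset.sum_congr rfl (g := fun w => ζ w * (C.ψ w / C.ψ 1) *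
    ((η : E ⧸ C.s.range → ℂ) (ρ w) / (η : E ⧸ C.s.range → ℂ) 1)) fun w _ => by
      simp only [hζ]
      split_ifs
      · rw [zero_mul, zero_mul]
      · rw [h, h7, mul_div_mul_comm, mul_assoc]
        rfl] at h5
  rw [Finset.sum_congr rfl (g := fun w => ζ w * ψ2 w *
    ((η' : E ⧸ C.s.range → ℂ) (ρ w) / (η' : E ⧸ C.s.range → ℂ) 1)) fun w _ => by
      simp only [hζ]
      split_ifs
      · rw [zero_mul, zero_mul]
      · rw [h', mul_assoc]
        rfl] at h6
  rw [h5, h6] at h4
  have h8 : ∀ x : ℂ, MemLocalIdeal M (m * x) ↔ MemLocalIdeal M x := fun x =>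
    ⟨fun h9 => by
      have h10 := Local.memLocalIdeal_mul_left (Local.memLocalRing_inv_natCast hM hm) h9
      rwa [inv_mul_cancel_left₀ (by exact_mod_cast fun h11 : m = 0 => hm (h11 ▸ dvd_zero p))] at h10,
    Local.memLocalIdeal_mul_left (Local.memLocalRing_natCast m)⟩
  rwa [h8, h8] at h4

end Cfsg.Agent.BH.TT
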